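import Mathlib
import Cfsg.Prelude.Def_IsolatedElements
import Cfsg.Agent.Lib.Helper17.Syl

set_option autoImplicit false

namespace Cfsg.Agent.Lib.Helper18

open Cfsg

variable {G : Type*} [Group G]

theorem IsIsolated.le_centralizer [Finite G] {p : ℕ} [Fact p.Prime] {x : G} (hiso : IsIsolated x)
    {R : Subgroup G} (hR : IsPGroup p R) (hx : x ∈ R) :
    R ≤ Subgroup.centralizer ({x} : Set G) := by
  by_contra hcon
  have hlt : R ⊓ Subgroup.centralizer ({x} : Set G) < R :=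
    lt_of_le_of_ne inf_le_left (fun h => hcon (inf_eq_left.mp h))
  obtain ⟨n, hnR, hnN, hnA⟩ := Lib.Helper17.pgroup_normalizer_grow hR hlt
  have hxA : x ∈ R ⊓ Subgroup.centralizer ({x} : Set G) :=
    ⟨hx, Subgroup.mem_centralizer_singleton_iff.mpr rfl⟩
  have h1 := (Subgroup.mem_normalizer_iff.mp hnN x).mp hxA
  have h2 : Commute x (n * x * n⁻¹) := (Subgroup.mem_centralizer_singleton_iff.mp h1.2).symm
  have h3 := hiso n h2
  apply hnA
  refine ⟨hnR, Subgroup.mem_centralizer_singleton_iff.mpr ?_⟩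
  symm
  calc x * n = (n * x * n⁻¹) * n := by rw [h3]
    _ = n * x := by group

theorem IsIsolated.normalizer_le_centralizer [Finite G] {p : ℕ} [Fact p.Prime] {x : G}
    (hiso : IsIsolated x) {R : Subgroup G} (hR : IsPGroup p R) (hx : x ∈ R) :
    Subgroup.normalizer (R : Set G) ≤ Subgroup.centralizer ({x} : Set G) := by
  intro g hg
  have h1 := (Subgroup.mem_normalizer_iff.mp hg x).mp hx
  have h2 : Commute x (g * x * g⁻¹) :=
    (Subgroup.mem_centralizer_singleton_iff.mp (IsIsolated.le_centralizer hiso hR hx h1)).symm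
  have h3 := hiso g h2
  refine Subgroup.mem_centralizer_singleton_iff.mpr ?_
  symm
  calc x * g = (g * x * g⁻¹) * g := by rw [h3]
    _ = g * x := by group

theorem isPGroup_zpowers {p : ℕ} {x : G} (hx : ∃ k : ℕ, orderOf x = p ^ k) :
    IsPGroup p (Subgroup.zpowers x) := by
  obtain ⟨k, hk⟩ := hx
  rintro ⟨y, hy⟩
  obtain ⟨n, rfl⟩ := Subgroup.mem_zpowers_iff.mp hy
  refine ⟨k, Subtype.ext ?_⟩
  show (x ^ n) ^ p ^ k = 1
  rw [← zpow_natCast, ← zpow_mul, mul_comm, zpow_mul, zpow_natCast, ← hk, pow_orderOf_eq_one, one_zpow]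

/-- Two conjugates of an isolated `p`-element inside a subgroup `K` are conjugate in `K`. -/
theorem IsIsolated.conj_in [Finite G] {p : ℕ} [Fact p.Prime] {x : G} (hiso : IsIsolated x)
    (hx : ∃ k : ℕ, orderOf x = p ^ k) {K : Subgroup G} (hxK : x ∈ K) {g : G}
    (hgK : g * x * g⁻¹ ∈ K) : ∃ c ∈ K, c * (g * x * g⁻¹) * c⁻¹ = x := by
  have hp1 : IsPGroup p (Subgroup.zpowers x) := isPGroup_zpowers hx
  have hp2 : IsPGroup p (Subgroup.zpowers (g * x * g⁻¹)) := by
    apply isPGroup_zpowers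
    have := (MulAut.conj g).orderOf_eq x
    rw [MulAut.conj_apply] at this
    rw [this]; exact hx
  obtain ⟨T, hT, hxT⟩ := Lib.Helper17.exists_isSyl_ge ((Subgroup.zpowers_le).mpr hxK) hp1
  obtain ⟨m, hm, hle⟩ := hT.exists_conj_ge ((Subgroup.zpowers_le).mpr hgK) hp2
  have h1 : g * x * g⁻¹ ∈ T.map (MulAut.conj m).toMonoidHom := hle (Subgroup.mem_zpowers _)
  obtain ⟨t, ht, hte⟩ := h1
  have hte' : m * t * m⁻¹ = g * x * g⁻¹ := hte
  have ht' : t = (m⁻¹ * g) * x * (m⁻¹ * g)⁻¹ := by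
    calc t = m⁻¹ * (m * t * m⁻¹) * m := by group
      _ = m⁻¹ * (g * x * g⁻¹) * m := by rw [hte']
      _ = (m⁻¹ * g) * x * (m⁻¹ * g)⁻¹ := by group
  have hxT' : x ∈ T := hxT (Subgroup.mem_zpowers x)
  have h2 : Commute x t :=
    (Subgroup.mem_centralizer_singleton_iff.mp
      (IsIsolated.le_centralizer hiso hT.isPGroup hxT' ht)).symm
  rw [ht'] at h2
  have h3 := hiso _ h2
  refine ⟨m⁻¹, K.inv_mem hm, ?_⟩
  calc m⁻¹ * (g * x * g⁻¹) * m⁻¹⁻¹ = m⁻¹ * g * x * (m⁻¹ * g)⁻¹ := by group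
    _ = x := h3

end Cfsg.Agent.Lib.Helper18
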