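import Mathlib
import Cfsg.Agent.Lib.Helper5.PCore

set_option autoImplicit false

namespace Cfsg.Agent.Lib.Helper18

open Cfsg

variable {G : Type*} [Group G] {p : ℕ}

theorem pPrimeCore_map_equiv_le [Finite G] {G' : Type*} [Group G'] (e : G ≃* G') :
    (pPrimeCore p G).map e.toMonoidHom ≤ pPrimeCore p G' :=
  Lib.Helper5.le_pPrimeCore ((pPrimeCore_normal p G).map _ e.surjective) (by
    rw [Subgroup.card_map_of_injective e.injective]; exact Lib.Helper5.pPrimeCore_coprime)

theorem pPrimeCore_characteristic [Finite G] : (pPrimeCore p G).Characteristic := by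
  rw [Subgroup.characteristic_iff_map_le]
  intro φ
  exact pPrimeCore_map_equiv_le φ

theorem ppc_map_le [Finite G] (N : Subgroup G) [N.Normal] :
    (pPrimeCore p N).map N.subtype ≤ pPrimeCore p G := by
  have := pPrimeCore_characteristic (G := N) (p := p)
  exact Lib.Helper5.le_pPrimeCore inferInstance (by
    rw [Subgroup.card_map_of_injective N.subtype_injective]; exact Lib.Helper5.pPrimeCore_coprime)

/-- a `p'`-subgroup which is normal in a normal subgroup lies in `O_{p'}(G)` -/
theorem le_pPrimeCore_of_normal_normal [Finite G] (N : Subgroup G) [N.Normal] {Y : Subgroup G}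
    (hYN : Y ≤ N) (hn : N ≤ Subgroup.normalizer (Y : Set G)) (hc : (Nat.card Y).Coprime p) :
    Y ≤ pPrimeCore p G := by
  have h1 : (Y.subgroupOf N).Normal := (Subgroup.normal_subgroupOf_iff_le_normalizer hYN).mpr hn
  have h2 : (Nat.card (Y.subgroupOf N)).Coprime p := by
    rw [Nat.card_congr (Subgroup.subgroupOfEquivOfLe hYN).toEquiv]; exact hc
  have h3 := Lib.Helper5.le_pPrimeCore h1 h2
  intro y hy
  apply ppc_map_le N
  exact ⟨⟨y, hYN hy⟩, h3 (Subgroup.mem_subgroupOf.mpr hy), rfl⟩

theorem card_comap_mk' (N : Subgroup G) [N.Normal] (O : Subgroup (G ⧸ N)) :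
    Nat.card (O.comap (QuotientGroup.mk' N)) = Nat.card N * Nat.card O :=
  QuotientGroup.card_preimage_mk N (O : Set (G ⧸ N))

theorem comap_pPrimeCore_quotient_le [Finite G] :
    (pPrimeCore p (G ⧸ pPrimeCore p G)).comap (QuotientGroup.mk' (pPrimeCore p G))
      ≤ pPrimeCore p G := by
  apply Lib.Helper5.le_pPrimeCore inferInstance
  rw [card_comap_mk']
  exact Nat.Coprime.mul_left Lib.Helper5.pPrimeCore_coprime Lib.Helper5.pPrimeCore_coprime

/-- `O_{p'}(G) = 1`, `K ⊴ G`, `N ≤ K` a central `p`-subgroup of `p'`-index in `K`: then `K = N`. -/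
theorem le_of_central_of_pPrimeCore_eq_bot [Finite G] [Fact p.Prime] (hO : pPrimeCore p G = ⊥)
    (K : Subgroup G) [K.Normal] {N : Subgroup G} (hNZ : N ≤ Subgroup.center G)
    (hNp : IsPGroup p N) (hidx : ¬ p ∣ N.relIndex K) : K ≤ N := by
  have hP0 : IsPGroup p (N.subgroupOf K) := hNp.comap_subtype
  let P : Sylow p K := hP0.toSylow hidx
  have hPc : Subgroup.normalizer ((P : Subgroup K) : Set K)
      ≤ Subgroup.centralizer ((P : Subgroup K) : Set K) := by
    intro g _
    rw [Subgroup.mem_centralizer_iff]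
    intro y hy
    have hy' : (y : G) ∈ N := hy
    have := (Subgroup.mem_center_iff.mp (hNZ hy')) (g : G)
    exact Subtype.ext this.symm
  have hcompl := MonoidHom.ker_transferSylow_isComplement' P hPc
  have hcard : (Nat.card (MonoidHom.transferSylow P hPc).ker).Coprime p := by
    rw [← hcompl.index_eq_card]
    exact ((Nat.Prime.coprime_iff_not_dvd Fact.out).mpr P.not_dvd_index).symm
  have h1 := Lib.Helper5.le_pPrimeCore (inferInstance : (MonoidHom.transferSylow P hPc).ker.Normal) hcard
  have h2 : pPrimeCore p K = ⊥ := by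
    have h3 := ppc_map_le (p := p) K
    rw [hO, le_bot_iff] at h3
    exact (Subgroup.map_eq_bot_iff_of_injective _ K.subtype_injective).mp h3
  rw [h2, le_bot_iff] at h1
  rw [h1, Subgroup.isComplement'_bot_left] at hcompl
  have h4 : N.subgroupOf K = ⊤ := hcompl
  exact Subgroup.subgroupOf_eq_top.mp h4

end Cfsg.Agent.Lib.Helper18
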